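import Groth.Prelude.Def_Red
import Groth.Prelude.Def_AlgGrp
import Groth.Agent.MTBridge.Charts
import Groth.Agent.DimField.Scheme
import Groth.Agent.FpqcDescent.Affine
import Groth.Agent.S4691
import Mathlib

/-!
# Extensions by tori: the projection is affine, and the dimension bound
-/

set_option autoImplicit false
set_option linter.style.haveILetI false
set_option backward.isDefEq.respectTransparency false

universe u

open CategoryTheory CategoryTheory.Limits MonoidalCategory CartesianMonoidalCategory MonObj GrpObj AlgebraicGeometry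
open scoped AlgebraMonoidAlgebra

noncomputable section

namespace Groth.Agent.TorusExtDim

/-- Laurent polynomials add at most one to the dimension. -/
theorem dim_laurent_fin : ∀ (r : ℕ) (k : Type u) [Field k],
    ringKrullDim (AddMonoidAlgebra k (Fin r → ℤ)) ≤ r ∧ IsNoetherianRing (AddMonoidAlgebra k (Fin r → ℤ))
  | 0, k, _ => by
    let e := AddMonoidAlgebra.uniqueRingEquiv (R := k) (Fin 0 → ℤ)
    exact ⟨by rw [ringKrullDim_eq_of_ringEquiv e, ringKrullDim_eq_zero_of_field]; simp,
      isNoetherianRing_of_ringEquiv k e.symm⟩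
  | r + 1, k, _ => by
    obtain ⟨h1, h2⟩ := dim_laurent_fin r k
    haveI := h2
    let R := AddMonoidAlgebra k (Fin r → ℤ)
    let e₀ : ℤ × (Fin r → ℤ) ≃+ (Fin (r + 1) → ℤ) :=
      { Fin.consEquiv (fun _ => ℤ) with
        map_add' := fun a b => by
          funext j
          refine Fin.cases ?_ (fun k => ?_) j <;> simp [Fin.consEquiv] }
    let e : LaurentPolynomial R ≃+* AddMonoidAlgebra k (Fin (r + 1) → ℤ) :=
      (AddMonoidAlgebra.curryRingEquiv (R := k) (M := ℤ) (N := Fin r → ℤ)).symm.trans
        (AddMonoidAlgebra.mapDomainRingEquiv k e₀)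
    haveI : IsNoetherianRing (LaurentPolynomial R) :=
      IsLocalization.isNoetherianRing (Submonoid.powers (Polynomial.X : Polynomial R)) (LaurentPolynomial R)
        inferInstance
    refine ⟨?_, isNoetherianRing_of_ringEquiv _ e⟩
    rw [← ringKrullDim_eq_of_ringEquiv e]
    refine le_trans (Order.krullDim_le_of_strictMono
      (PrimeSpectrum.comap (algebraMap (Polynomial R) (LaurentPolynomial R))) ?_) ?_
    · exact Monotone.strictMono_of_injective (fun P Q h => Ideal.comap_mono h)
        (PrimeSpectrum.localization_comap_injective _ (Submonoid.powers (Polynomial.X : Polynomial R)))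
    · show ringKrullDim (Polynomial R) ≤ _
      rw [Polynomial.ringKrullDim_of_isNoetherianRing, Nat.cast_add, Nat.cast_one]
      exact add_le_add h1 le_rfl

variable {k : Type u} [Field k]

/-- a split torus is affine of dimension at most its rank -/
theorem torus_affine_dim {n : ℕ} (T : Over (Spec (CommRingCat.of k))) [GrpObj T]
    (hT : Red.IsSplitTorusWith (Fin n → ℤ) T) :
    IsAffine T.left ∧ LocallyOfFiniteType T.hom ∧ topologicalKrullDim T.left ≤ n := by
  obtain ⟨e₁⟩ := hT
  obtain ⟨e₂⟩ := MTBridge.nonempty_DS_iso k (Fin n → ℤ)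
  let B := MonoidAlgebra k (Multiplicative (Fin n → ℤ))
  let e : T ≅ (MTBridge.specGrp k B).X := (Grp.forget _).mapIso (e₁ ≪≫ e₂)
  let el : T.left ≅ Spec (CommRingCat.of B) := (Over.forget _).mapIso e
  refine ⟨IsAffine.of_isIso el.hom, ?_, ?_⟩
  · haveI : Algebra.FiniteType k B := inferInstance
    have h : T.hom = el.hom ≫ Spec.map (CommRingCat.ofHom (algebraMap k B)) := (Over.w e.hom).symm
    haveI : LocallyOfFiniteType (Spec.map (CommRingCat.ofHom (algebraMap k B))) :=
      (HasRingHomProperty.Spec_iff (P := @LocallyOfFiniteType)).2 (RingHom.finiteType_algebraMap.2 inferInstance)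
    rw [h]
    infer_instance
  · rw [DimField.dim_eq_of_homeomorph (Scheme.homeoOfIso el)]
    refine le_of_eq_of_le ?_ (dim_laurent_fin n k).1
    exact (PrimeSpectrum.topologicalKrullDim_eq_ringKrullDim (R := B)).trans
      (ringKrullDim_eq_of_ringEquiv (AddMonoidAlgebra.toMultiplicative k (Fin n → ℤ)).symm)

variable {G T A : Over (Spec (CommRingCat.of k))} [GrpObj G] [GrpObj T] [GrpObj A]

/-- the torsor square -/
theorem isPullback_torsor (i : T ⟶ G) [Mono i] (π : G ⟶ A) [IsMonHom π] (hker : AlgGrp.IsKernel i π) :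
    IsPullback (fst G T) (fst G T * (snd G T ≫ i)) π π := by
  have hn : i ≫ π = 1 := hker.w
  have hmem : ∀ (X : Over (Spec (CommRingCat.of k))) (g : X ⟶ G), g ≫ π = 1 → ∃ w : X ⟶ T, w ≫ i = g :=
    fun X g hg => ⟨hker.lift g (toUnit X) hg, hker.lift_fst _ _ _⟩
  refine ⟨⟨?_⟩, ⟨PullbackCone.isLimitAux' _ fun s => ?_⟩⟩
  · rw [MonObj.mul_comp, Category.assoc, hn, MonObj.comp_one, _root_.mul_one]
  · have h1 : (s.fst⁻¹ * s.snd) ≫ π = 1 := by
      rw [MonObj.mul_comp, GrpObj.inv_comp, s.condition, inv_mul_cancel]
    let w := (hmem _ _ h1).choose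
    have hw : w ≫ i = s.fst⁻¹ * s.snd := (hmem _ _ h1).choose_spec
    refine ⟨lift s.fst w, lift_fst _ _, ?_, fun {l : s.pt ⟶ G ⊗ T} hl1 hl2 => ?_⟩
    · change lift s.fst w ≫ (fst G T * (snd G T ≫ i)) = s.snd
      rw [MonObj.comp_mul, lift_fst, lift_snd_assoc, hw, mul_inv_cancel_left]
    · change l ≫ fst G T = s.fst at hl1
      change l ≫ (fst G T * (snd G T ≫ i)) = s.snd at hl2
      refine CartesianMonoidalCategory.hom_ext _ _ (by rw [lift_fst, hl1]) ?_
      rw [← cancel_mono i, lift_snd, hw, ← hl2, MonObj.comp_mul, hl1, inv_mul_cancel_left, Category.assoc]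

/-- the projection of an extension by a split torus is affine, and the dimension is at most the sum -/
theorem main [LocallyOfFiniteType G.hom] [QuasiCompact G.hom] [IsSeparated A.hom] [LocallyOfFiniteType A.hom]
    {n g : ℕ} (hT : Red.IsSplitTorusWith (Fin n → ℤ) T) (i : T ⟶ G) [Mono i] (π : G ⟶ A) [IsMonHom π]
    [Flat π.left] [Surjective π.left] (hker : AlgGrp.IsKernel i π) (hg : topologicalKrullDim A.left ≤ g) :
    IsAffineHom π.left ∧ topologicalKrullDim G.left ≤ ((g + n : ℕ) : WithBot ℕ∞) := by
  obtain ⟨hTa, hTf, hTd⟩ := torus_affine_dim T hT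
  haveI := hTa
  haveI := hTf
  have hsq : IsPullback (fst G T).left (fst G T * (snd G T ≫ i)).left π.left π.left :=
    (isPullback_torsor i π hker).map (Over.forget _)
  haveI : QuasiCompact (π.left ≫ A.hom) := by rw [Over.w]; infer_instance
  haveI : QuasiCompact π.left := QuasiCompact.of_comp π.left A.hom
  haveI : IsAffineHom T.hom := isAffineHom_of_isAffine _
  have hpb : IsPullback (fst G T).left (snd G T).left G.hom T.hom := IsPullback.of_hasPullback G.hom T.hom
  haveI : IsAffineHom (fst G T).left := MorphismProperty.of_isPullback hpb.flip inferInstance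
  haveI : IsAffineHom π.left :=
    MorphismProperty.of_isPullback_of_descendsAlong (P := @IsAffineHom)
      (Q := (@Surjective ⊓ @Flat ⊓ @QuasiCompact : MorphismProperty Scheme.{u})) hsq
      ⟨⟨inferInstance, inferInstance⟩, inferInstance⟩ inferInstance
  refine ⟨inferInstance, ?_⟩
  haveI : LocallyOfFiniteType (π.left ≫ A.hom) := by rw [Over.w]; infer_instance
  haveI : LocallyOfFiniteType π.left := locallyOfFiniteType_of_comp π.left A.hom
  haveI : IsLocallyNoetherian A.left := LocallyOfFiniteType.isLocallyNoetherian A.hom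
  haveI : Subsingleton ↥(Spec (CommRingCat.of k)) := inferInstanceAs (Subsingleton (PrimeSpectrum k))
  have hfib : ∀ y : A.left, topologicalKrullDim ↥(π.left.fiber y) ≤ n := by
    intro y
    obtain ⟨x, rfl⟩ := π.left.surjective y
    haveI : Subsingleton ↥(Spec (G.left.residueField x)) := inferInstanceAs (Subsingleton (PrimeSpectrum _))
    haveI : Subsingleton ↥(Spec (A.left.residueField (π.left x))) := inferInstanceAs (Subsingleton (PrimeSpectrum _))
    let jx := G.left.fromSpecResidueField x
    let θ := Spec.map (π.left.residueFieldMap x)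
    have hθ : θ ≫ A.left.fromSpecResidueField (π.left x) = jx ≫ π.left :=
      Scheme.Hom.SpecMap_residueFieldMap_fromSpecResidueField π.left x
    have hP := IsPullback.of_hasPullback (fst G T).left jx
    -- a pullback of the fibre
    have hA : IsPullback (pullback.fst (fst G T).left jx ≫ (fst G T * (snd G T ≫ i)).left)
        (pullback.snd (fst G T).left jx) π.left (θ ≫ A.left.fromSpecResidueField (π.left x)) := by
      rw [hθ]; exact hP.paste_horiz hsq.flip
    have hFib : IsPullback (pullback.fst π.left (A.left.fromSpecResidueField (π.left x)))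
        (π.left.fiberToSpecResidueField (π.left x)) π.left (A.left.fromSpecResidueField (π.left x)) :=
      IsPullback.of_hasPullback _ _
    let l := hFib.lift (pullback.fst (fst G T).left jx ≫ (fst G T * (snd G T ≫ i)).left)
      (pullback.snd (fst G T).left jx ≫ θ) (by rw [Category.assoc]; exact hA.w)
    have h1 : IsPullback l (pullback.snd (fst G T).left jx) (π.left.fiberToSpecResidueField (π.left x)) θ :=
      IsPullback.of_right (by rw [hFib.lift_fst]; exact hA) (hFib.lift_snd _ _ _) hFib
    -- a base change of the torus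
    have h2 : IsPullback (pullback.fst (fst G T).left jx ≫ (snd G T).left) (pullback.snd (fst G T).left jx) T.hom
        (jx ≫ G.hom) := hP.paste_horiz hpb.flip
    haveI : LocallyOfFiniteType (π.left.fiberToSpecResidueField (π.left x)) :=
      inferInstanceAs (LocallyOfFiniteType (pullback.snd π.left (A.left.fromSpecResidueField (π.left x))))
    have e1 : topologicalKrullDim ↥(π.left.fiber (π.left x)) = topologicalKrullDim ↥(pullback (fst G T).left jx) :=
      DimField.dim_eq_of_isPullback _ _ _ _ h1
    rw [e1, ← DimField.dim_eq_of_isPullback _ _ _ _ h2]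
    exact hTd
  refine (S4691.result π.left n hfib).trans ?_
  rw [Nat.cast_add]
  exact add_le_add hg le_rfl

end Groth.Agent.TorusExtDim
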